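import Cfsg.Agent.R08.FiTwentyFour
import Cfsg.Agent.Fischer.Fi23Simple
import Cfsg.Agent.Blocks.ClassScalar

/-!
# `Fi24`: a transposition, its centralizer `2 × Fi23` and `Fi24'` (helper593, for S4910, row `Fi24'`)

* `T` : the copy of `Fi23` commuting with the transposition `a = gen .l`;
* `facts_T` : `C(a) = ⟨a⟩ × T`, `T ≤ Fi24'`, the index of `C(a)` is 306936;
* `fi24_data` : the same with existential quantifiers.
-/

set_option autoImplicit false

namespace Cfsg.Agent.H593.LD.Fi24Data

open Cfsg Subgroup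
open Cfsg.Spor (Fi24 Fi23)
open Cfsg.Spor.Fi24 (Gen)
open Cfsg.Agent.Fischer.Fi24Class (gen)
open Cfsg.Agent.R08.FiTwentyFour

/-- the transposition -/
abbrev a : Fi24 := gen .l

/-- the copy of `Fi23` in the centralizer of `a` -/
noncomputable def T : Subgroup Fi24 := facts.phi.range

theorem a_mem_L : a ∈ L := gen_mem_L .l

theorem aa : a * a = 1 := sq a_mem_L

theorem a_notMem : a ∉ commutator Fi24 := odd a_mem_L

theorem a_ne : a ≠ 1 := fun h => a_notMem (by rw [h]; exact one_mem _)

theorem orderOf_a : orderOf a = 2 := by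
  have : Fact (Nat.Prime 2) := ⟨Nat.prime_two⟩
  exact orderOf_eq_prime (by rw [pow_two, aa]) a_ne

theorem T_le : T ≤ centralizer ({a} : Set Fi24) := by
  rintro _ ⟨k, rfl⟩
  rw [mem_centralizer_singleton_iff]
  exact facts.phi_comm k

theorem T_le_commutator : T ≤ commutator Fi24 := by
  rintro _ ⟨k, rfl⟩
  rw [mem_commutator_iff]
  exact ((facts.mem_range_iff (facts.phi k)).1 ⟨k, rfl⟩).2

theorem a_notMem_T : a ∉ T := fun h => a_notMem (T_le_commutator h)

theorem isoFi23_T : Spor.IsoFi23 T :=
  ⟨(MonoidHom.ofInjective (f := facts.phi) facts.phi_injective).symm⟩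

theorem isoFi24'_commutator : Spor.IsoFi24' (commutator Fi24) := ⟨MulEquiv.refl _⟩

theorem card_T : Nat.card T = 4089470473293004800 := by
  rw [← Cfsg.Agent.Fischer.Fi23Simple.card_Fi23]
  exact Nat.card_congr (MonoidHom.ofInjective (f := facts.phi) facts.phi_injective).symm.toEquiv

theorem card_Fi24 : Nat.card Fi24 = 306936 * (2 * 4089470473293004800) := by
  have h1 := (commutator Fi24).card_mul_index
  rw [index_commutator, card_commutator] at h1
  rw [← h1]

theorem index_cent : (centralizer ({a} : Set Fi24)).index = 306936 := by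
  classical
  have := finite_Fi24
  let _ : Fintype Fi24 := Fintype.ofFinite Fi24
  rw [Blocks.ClassScalar.index_centralizer, ← ncard_L]
  exact Nat.card_congr (Equiv.refl _)

theorem card_cent : Nat.card (centralizer ({a} : Set Fi24)) = 2 * Nat.card T := by
  have := finite_Fi24
  have h1 := (centralizer ({a} : Set Fi24)).card_mul_index
  rw [index_cent, card_Fi24, mul_comm (306936 : ℕ)] at h1
  rw [card_T]
  exact Nat.eq_of_mul_eq_mul_right (by norm_num) h1

/-- **The data of `Fi24`.** -/
theorem fi24_data : ∃ (G : Type) (_ : Group G) (_ : Finite G) (a : G) (T S : Subgroup G), orderOf a = 2 ∧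
    T ≤ centralizer {a} ∧ Nat.card (centralizer ({a} : Set G)) = 2 * Nat.card T ∧ a ∉ T ∧ Spor.IsoFi23 T ∧
    (centralizer ({a} : Set G)).index = 306936 ∧ S.index = 2 ∧ S.Normal ∧ Spor.IsoFi24' S ∧ a ∉ S ∧ T ≤ S :=
  ⟨Fi24, inferInstance, finite_Fi24, a, T, commutator Fi24, orderOf_a, T_le, card_cent, a_notMem_T, isoFi23_T,
    index_cent, index_commutator, inferInstance, isoFi24'_commutator, a_notMem, T_le_commutator⟩

end Cfsg.Agent.H593.LD.Fi24Data
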