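import Cfsg.Agent.H870.Fi23Fix

/-!
# `Fi₂₃`: orbits of the centralizer of two commuting transpositions (helper593, for S4910, row `Fi23`)

`x = el .z` (the point 0), `y = el .g` (the point 8005); `C = C(x) ∩ C(y)`.

* `trans_nei` : `C` is transitive on the 25344 transpositions commuting with neither `x` nor `y`;
* `trans_both` : `C` is transitive on the 693 transpositions commuting with both;
* `card_nei`, `card_both` : the numbers.
-/

set_option autoImplicit false
set_option maxRecDepth 100000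
set_option exponentiation.threshold 40000

namespace Cfsg.Agent.H593.LD.Orb23

open Cfsg Subgroup Cfsg.Agent.Lib.PermNet Cfsg.Agent.Lib.PermNetFix Cfsg.Agent.Lib.PermNetOrbit
open Cfsg.Agent.LThreeFi23 Cfsg.Agent.Fischer.Fi23Hom Cfsg.Agent.H870.Fi23Fix
open Cfsg.Spor (Fi23)

/-- the centralizer of the two transpositions -/
def C : Subgroup Fi23 := centralizer {el .z} ⊓ centralizer {el .g}

theorem mem_C {k : Fi23} : k ∈ C ↔ k * el .z = el .z * k ∧ k * el .g = el .g * k := by
  unfold C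
  rw [Subgroup.mem_inf, mem_centralizer_singleton_iff, mem_centralizer_singleton_iff]

/-- words of elements of `C` -/
def gens : List (List Lt) := [[.a], [.b], [.c], [.d], [.e], [.h], [.i],
  [.f, .e, .d, .h, .g, .f, .e, .d, .c, .d, .e, .f, .g, .h, .d, .e, .f]]

theorem chk_gens : (gens.all fun w => Nat.beq (ptw w 0) 0 && Nat.beq (ptw w 8005) 8005) = true := by
  decide +kernel

theorem gens_mem {w : List Lt} (hw : w ∈ gens) : elw w ∈ C := by
  have h1 := List.all_eq_true.1 chk_gens w hw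
  rw [Bool.and_eq_true] at h1
  have h2 := Nat.eq_of_beq_eq_true h1.1
  have h3 := Nat.eq_of_beq_eq_true h1.2
  rw [ptw_eq] at h2 h3
  rw [mem_C]
  exact ⟨(fix_pt_iff (elw w) .z).1 h2, (fix_pt_iff (elw w) .g).1 h3⟩

/-- the networks of the words -/
noncomputable def ws : List (List Net) := gens.map ntw

theorem ws_ok : WsOk (2 ^ 15) ws := by
  intro w hw
  obtain ⟨v, -, rfl⟩ := List.mem_map.1 hw
  exact ntw_ok v

theorem ws_mem : ∀ w ∈ ws, wperm w ∈ C.map rho := by
  intro w hw
  obtain ⟨v, hv, rfl⟩ := List.mem_map.1 hw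
  exact ⟨elw v, gens_mem hv, rho_elw v⟩

/-- the mask of the points commuting with neither -/
noncomputable def neiM : ℕ :=
  seq (Nat.sub (Nat.pow 2 31671) 1) fun m =>
    Nat.land (Nat.xor m (fxm [.z])) (Nat.xor m (fxm [.g]))

/-- the mask of the points commuting with both -/
noncomputable def bothM : ℕ :=
  seq (Nat.add (Nat.pow 2 8005) 1) fun m => seq (Nat.land (fxm [.z]) (fxm [.g])) fun x => Nat.land x (Nat.xor x m)

theorem testBit_neiM (p : ℕ) : neiM.testBit p = true ↔
    p < 31671 ∧ ¬ rho (el .z) p = p ∧ ¬ rho (el .g) p = p := by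
  have hz := testBit_fxm [.z] p
  have hg := testBit_fxm [.g] p
  rw [elw_cons, elw_nil, mul_one] at hz hg
  unfold neiM
  rw [seq_eq]
  show (((2 ^ 31671 - 1) ^^^ fxm [.z]) &&& ((2 ^ 31671 - 1) ^^^ fxm [.g])).testBit p = true ↔ _
  rw [Nat.testBit_and, Nat.testBit_xor, Nat.testBit_xor, Nat.testBit_two_pow_sub_one]
  by_cases hp : p < 31671
  · rw [decide_eq_true hp, Bool.true_xor, Bool.true_xor, Bool.and_eq_true, Bool.not_eq_true', Bool.not_eq_true',
      ← Bool.not_eq_true, ← Bool.not_eq_true, hz, hg]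
    tauto
  · have h1 : (fxm [.z]).testBit p = false := by
      rw [← Bool.not_eq_true, hz]; tauto
    rw [decide_eq_false hp, h1]
    simp [hp]

theorem testBit_bothM (p : ℕ) : bothM.testBit p = true ↔
    p < 31671 ∧ p ≠ 0 ∧ p ≠ 8005 ∧ rho (el .z) p = p ∧ rho (el .g) p = p := by
  have hz := testBit_fxm [.z] p
  have hg := testBit_fxm [.g] p
  rw [elw_cons, elw_nil, mul_one] at hz hg
  unfold bothM
  rw [seq_eq, seq_eq]
  show ((fxm [.z] &&& fxm [.g]) &&& ((fxm [.z] &&& fxm [.g]) ^^^ (2 ^ 8005 + 1))).testBit p = true ↔ _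
  have h2 : (2 ^ 8005 + 1 : ℕ) = 2 ^ 8005 ||| 2 ^ 0 := by
    have h3 := Nat.two_pow_add_eq_or_of_lt (i := 8005) (b := 1) (Nat.one_lt_two_pow (by norm_num)) 1
    rw [mul_one] at h3
    rw [h3, Nat.pow_zero]
  rw [h2, Nat.testBit_and, Nat.testBit_xor, Nat.testBit_and, Nat.testBit_or, Nat.testBit_two_pow, Nat.testBit_two_pow]
  by_cases h3 : (fxm [.z]).testBit p = true
  · by_cases h4 : (fxm [.g]).testBit p = true
    · rw [h3, h4]
      have h5 := hz.1 h3
      have h6 := hg.1 h4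
      simp only [Bool.and_self, Bool.true_xor, Bool.true_and, Bool.not_eq_true', Bool.or_eq_false_iff,
        decide_eq_false_iff_not]
      constructor
      · rintro ⟨h7, h8⟩
        exact ⟨h5.1, fun h => h8 h.symm, fun h => h7 h.symm, h5.2, h6.2⟩
      · rintro ⟨-, h7, h8, -, -⟩
        exact ⟨fun h => h8 h.symm, fun h => h7 h.symm⟩
    · have h5 : (fxm [.g]).testBit p = false := by rwa [← Bool.not_eq_true]
      rw [h5, Bool.and_false, Bool.false_and]
      constructor
      · intro h; exact absurd h (by decide)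
      · rintro ⟨h6, -, -, -, h7⟩
        exact absurd (hg.2 ⟨h6, h7⟩) h4
  · have h5 : (fxm [.z]).testBit p = false := by rwa [← Bool.not_eq_true]
    rw [h5, Bool.false_and, Bool.false_and]
    constructor
    · intro h; exact absurd h (by decide)
    · rintro ⟨h6, -, -, h7, -⟩
      exact absurd (hz.2 ⟨h6, h7⟩) h3

theorem chk_nei : Nat.beq (sat ws 7 (Nat.pow 2 1)) neiM = true := by decide +kernel

theorem chk_both : Nat.beq (sat ws 4 (Nat.pow 2 52)) bothM = true := by decide +kernel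

theorem chk_card_nei : Nat.beq (pc 15 neiM) 25344 = true := by decide +kernel

theorem chk_card_both : Nat.beq (pc 15 bothM) 693 = true := by decide +kernel

theorem orb_nei {p : ℕ} (hp : neiM.testBit p = true) : ∃ k ∈ C, rho k 1 = p := by
  have h1 : sat ws 7 (2 ^ 1) = neiM := Nat.eq_of_beq_eq_true chk_nei
  rw [← h1] at hp
  obtain ⟨g, ⟨k, hk, rfl⟩, hg⟩ := sat_point_spec ws_ok ws_mem 7 hp
  exact ⟨k, hk, hg⟩

theorem orb_both {p : ℕ} (hp : bothM.testBit p = true) : ∃ k ∈ C, rho k 52 = p := by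
  have h1 : sat ws 4 (2 ^ 52) = bothM := Nat.eq_of_beq_eq_true chk_both
  rw [← h1] at hp
  obtain ⟨g, ⟨k, hk, rfl⟩, hg⟩ := sat_point_spec ws_ok ws_mem 4 hp
  exact ⟨k, hk, hg⟩

/-- the point of a transposition -/
theorem exists_pt {e : Fi23} (h : IsConj (el .z) e) : ∃ p < 31671, T p = e := by
  obtain ⟨c, hc⟩ := isConj_iff.1 h
  exact ⟨rho c 0, stab_facts.2 c, by rw [T_eq (g := c) rfl]; exact hc⟩

/-- points with the same orbit representative -/
theorem conj_of {s p p' : ℕ} (hs : s < 31671) {k k' : Fi23} (hk : k ∈ C) (hk' : k' ∈ C) (h : rho k s = p)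
    (h' : rho k' s = p') : ∃ g ∈ C, g * T p * g⁻¹ = T p' := by
  refine ⟨k' * k⁻¹, C.mul_mem hk' (C.inv_mem hk), ?_⟩
  rw [← h, ← h', T_act _ hs, T_act _ hs]
  group

/-- **the 25344 transpositions commuting with neither `x` nor `y` are conjugate under `C(x) ∩ C(y)`** -/
theorem trans_nei {e e' : Fi23} (he : IsConj (el .z) e) (he' : IsConj (el .z) e')
    (h1 : ¬ e * el .z = el .z * e) (h2 : ¬ e * el .g = el .g * e)
    (h1' : ¬ e' * el .z = el .z * e') (h2' : ¬ e' * el .g = el .g * e') :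
    ∃ g, g * el .z = el .z * g ∧ g * el .g = el .g * g ∧ g * e * g⁻¹ = e' := by
  obtain ⟨p, hp, rfl⟩ := exists_pt he
  obtain ⟨p', hp', rfl⟩ := exists_pt he'
  have key : ∀ q < 31671, ¬ T q * el .z = el .z * T q → ¬ T q * el .g = el .g * T q → neiM.testBit q = true := by
    intro q hq a b
    rw [testBit_neiM]
    refine ⟨hq, fun h => a ?_, fun h => b ?_⟩
    · exact ((fix_iff _ hq).1 h).symm
    · exact ((fix_iff _ hq).1 h).symm
  obtain ⟨k, hk, e1⟩ := orb_nei (key p hp h1 h2)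
  obtain ⟨k', hk', e2⟩ := orb_nei (key p' hp' h1' h2')
  obtain ⟨g, hg, e3⟩ := conj_of (by norm_num) hk hk' e1 e2
  exact ⟨g, (mem_C.1 hg).1, (mem_C.1 hg).2, e3⟩

/-- **the 693 transpositions commuting with `x` and `y` (and different from them) are conjugate under
`C(x) ∩ C(y)`** -/
theorem trans_both {e e' : Fi23} (he : IsConj (el .z) e) (he' : IsConj (el .z) e')
    (h1 : e * el .z = el .z * e) (h2 : e * el .g = el .g * e) (h3 : e ≠ el .z) (h4 : e ≠ el .g)
    (h1' : e' * el .z = el .z * e') (h2' : e' * el .g = el .g * e') (h3' : e' ≠ el .z) (h4' : e' ≠ el .g) :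
    ∃ g, g * el .z = el .z * g ∧ g * el .g = el .g * g ∧ g * e * g⁻¹ = e' := by
  obtain ⟨p, hp, rfl⟩ := exists_pt he
  obtain ⟨p', hp', rfl⟩ := exists_pt he'
  have key : ∀ q < 31671, T q * el .z = el .z * T q → T q * el .g = el .g * T q → T q ≠ el .z → T q ≠ el .g →
      bothM.testBit q = true := by
    intro q hq a b c d
    rw [testBit_bothM]
    refine ⟨hq, ?_, ?_, (fix_iff _ hq).2 a.symm, (fix_iff _ hq).2 b.symm⟩
    · rintro rfl
      exact c T_zero
    · rintro rfl
      exact d (T_pt .g)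
  obtain ⟨k, hk, e1⟩ := orb_both (key p hp h1 h2 h3 h4)
  obtain ⟨k', hk', e2⟩ := orb_both (key p' hp' h1' h2' h3' h4')
  obtain ⟨g, hg, e3⟩ := conj_of (by norm_num) hk hk' e1 e2
  exact ⟨g, (mem_C.1 hg).1, (mem_C.1 hg).2, e3⟩

theorem lt_pow {M : ℕ} (h : ∀ p, M.testBit p = true → p < 31671) : M < 2 ^ 2 ^ 15 :=
  Nat.lt_pow_two_of_testBit _ fun i hi => by
    by_contra hc
    rw [Bool.not_eq_false] at hc
    have := h i hc
    omega

theorem card_nei : {p : ℕ | p < 31671 ∧ ¬ rho (el .z) p = p ∧ ¬ rho (el .g) p = p}.ncard = 25344 := by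
  have h0 : pc 15 neiM = 25344 := Nat.eq_of_beq_eq_true chk_card_nei
  rw [pc_eq 15 _ (lt_pow fun p hp => ((testBit_neiM p).1 hp).1), ← Set.ncard_coe_finset] at h0
  rw [← h0]
  congr 1
  ext p
  rw [Finset.mem_coe, mem_bits, testBit_neiM]
  constructor
  · intro h
    exact ⟨lt_trans h.1 (by norm_num), h⟩
  · exact fun h => h.2

theorem card_both : {p : ℕ | p < 31671 ∧ p ≠ 0 ∧ p ≠ 8005 ∧ rho (el .z) p = p ∧ rho (el .g) p = p}.ncard = 693 := by
  have h0 : pc 15 bothM = 693 := Nat.eq_of_beq_eq_true chk_card_both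
  rw [pc_eq 15 _ (lt_pow fun p hp => ((testBit_bothM p).1 hp).1), ← Set.ncard_coe_finset] at h0
  rw [← h0]
  congr 1
  ext p
  rw [Finset.mem_coe, mem_bits, testBit_bothM]
  constructor
  · intro h
    exact ⟨lt_trans h.1 (by norm_num), h⟩
  · exact fun h => h.2

end Cfsg.Agent.H593.LD.Orb23
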